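import Mathlib

/-!
# Injectivity and flatness of cokernels over an Artinian local base
-/

set_option autoImplicit false
set_option linter.style.haveILetI false

namespace Groth.Agent.FlatArtin

open IsLocalRing

universe u v w

variable {A : Type u} [CommRing A] [IsArtinianRing A] [IsLocalRing A]

theorem isNilpotent_maximalIdeal : IsNilpotent (maximalIdeal A) :=
  jacobson_eq_maximalIdeal (⊥ : Ideal A) bot_ne_top ▸ IsArtinianRing.isNilpotent_jacobson_bot

theorem isNilpotent_of_ne_top {I : Ideal A} (hI : I ≠ ⊤) : IsNilpotent I := by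
  obtain ⟨n, hn⟩ := isNilpotent_maximalIdeal (A := A)
  exact ⟨n, le_bot_iff.1 ((Ideal.pow_right_mono (le_maximalIdeal hI) n).trans hn.le)⟩

theorem exists_socle {I : Ideal A} (hI : I ≠ ⊤) :
    ∃ z, z ∉ I ∧ ∀ a ∈ maximalIdeal A, a * z ∈ I := by
  classical
  have hex : ∃ n, maximalIdeal A ^ n ≤ I := by
    obtain ⟨n, hn⟩ := isNilpotent_maximalIdeal (A := A)
    exact ⟨n, hn.le.trans bot_le⟩
  have h0 : Nat.find hex ≠ 0 := by
    intro h
    have := Nat.find_spec hex
    rw [h, pow_zero, Ideal.one_eq_top] at this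
    exact hI (top_le_iff.1 this)
  obtain ⟨z, hz, hzI⟩ := SetLike.not_le_iff_exists.1 (Nat.find_min hex (Nat.sub_one_lt h0))
  refine ⟨z, hzI, fun a ha => Nat.find_spec hex ?_⟩
  rw [show Nat.find hex = (Nat.find hex - 1) + 1 by omega, pow_succ']
  exact Ideal.mul_mem_mul ha hz

variable {M : Type v} [AddCommGroup M] [Module A M] {N : Type w} [AddCommGroup N] [Module A N]

/-- In a flat module, a relation `z • x ∈ I N` with `z` outside `I` and killed by `m` mod `I` forces
`x ∈ m N`. -/
theorem mem_maximalIdeal_smul_of_socle [Module.Flat A N] {I : Ideal A} {z : A} (hz : z ∉ I)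
    {x : N} (hx : z • x ∈ I • (⊤ : Submodule A N)) : x ∈ maximalIdeal A • (⊤ : Submodule A N) := by
  obtain ⟨n, c, hc, hcx⟩ : ∃ (n : ℕ) (c : Fin n → A × N), (∀ l, (c l).1 ∈ I) ∧
      ∑ l, (c l).1 • (c l).2 = z • x := by
    refine Submodule.smul_induction_on hx (fun a ha m _ => ⟨1, fun _ => (a, m), fun _ => ha, by simp⟩) ?_
    rintro u v ⟨n, c, hc, hu⟩ ⟨n', c', hc', hv⟩
    exact ⟨n + n', Fin.append c c', fun l => by
      induction l using Fin.addCases with
      | left l => simpa using hc l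
      | right l => simpa using hc' l, by simp [Fin.sum_univ_add, hu, hv]⟩
  have hrel : ∑ l : Option (Fin n), (l.elim z fun l => -(c l).1) • (l.elim x fun l => (c l).2) = 0 := by
    simp [Fintype.sum_option, hcx]
  obtain ⟨k, b, y, hy, hb⟩ := Module.Flat.isTrivialRelation_of_sum_smul_eq_zero hrel
  rw [show x = ∑ j, b none j • y j from hy none]
  refine Submodule.sum_mem _ fun j _ => Submodule.smul_mem_smul ?_ trivial
  by_contra hu
  obtain ⟨v, hv⟩ := (IsLocalRing.notMem_maximalIdeal.1 hu).exists_right_inv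
  apply hz
  have h := hb j
  rw [Fintype.sum_option] at h
  simp only [Option.elim_none, Option.elim_some, neg_mul, Finset.sum_neg_distrib, add_neg_eq_zero] at h
  have : z = (∑ l, (c l).1 * b (some l) j) * v := by rw [← h, mul_assoc, hv, mul_one]
  rw [this]
  exact I.mul_mem_right _ (I.sum_mem fun l _ => I.mul_mem_right _ (hc l))

omit [IsArtinianRing A] in
theorem map_mem_smul (φ : M →ₗ[A] N) {I : Ideal A} {x : M} (hx : x ∈ I • (⊤ : Submodule A M)) :
    φ x ∈ I • (⊤ : Submodule A N) :=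
  Submodule.smul_induction_on hx
    (fun a ha m _ => by rw [map_smul]; exact Submodule.smul_mem_smul ha trivial)
    fun u v hu hv => by rw [map_add]; exact add_mem hu hv

/-- If `φ` is injective modulo a proper ideal then it is injective modulo `m`. -/
theorem mem_of_map_mem (φ : M →ₗ[A] N) [Module.Flat A M] {I : Ideal A} (hI : I ≠ ⊤)
    (h : ∀ x, φ x ∈ I • (⊤ : Submodule A N) → x ∈ I • (⊤ : Submodule A M)) (x : M)
    (hx : φ x ∈ maximalIdeal A • (⊤ : Submodule A N)) : x ∈ maximalIdeal A • (⊤ : Submodule A M) := by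
  obtain ⟨z, hz, hzm⟩ := exists_socle hI
  refine mem_maximalIdeal_smul_of_socle hz (h _ ?_)
  rw [map_smul]
  refine Submodule.smul_induction_on hx (fun a ha m _ => ?_) fun u v hu hv => by
    rw [smul_add]; exact add_mem hu hv
  rw [smul_smul, mul_comm]
  exact Submodule.smul_mem_smul (hzm a ha) trivial

/-- If `φ` is injective modulo `m` then it is injective modulo every ideal. -/
theorem mem_smul_of_map_mem (φ : M →ₗ[A] N) [Module.Flat A N]
    (h : ∀ x, φ x ∈ maximalIdeal A • (⊤ : Submodule A N) → x ∈ maximalIdeal A • (⊤ : Submodule A M))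
    (J : Ideal A) (x : M) (hx : φ x ∈ J • (⊤ : Submodule A N)) : x ∈ J • (⊤ : Submodule A M) := by
  classical
  obtain ⟨n, hn⟩ := isNilpotent_maximalIdeal (A := A)
  suffices H : ∀ n, x ∈ (J ⊔ maximalIdeal A ^ n) • (⊤ : Submodule A M) by
    simpa [hn] using H n
  intro n
  induction n with
  | zero => simp
  | succ n ih =>
    have hex : ∃ c, ∃ a : Fin c → A, (∀ i, a i ∈ J ⊔ maximalIdeal A ^ n) ∧
        J ⊔ maximalIdeal A ^ n ≤ J ⊔ maximalIdeal A ^ (n + 1) ⊔ Ideal.span (Set.range a) := by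
      obtain ⟨c, a, ha⟩ := Submodule.fg_iff_exists_fin_generating_family.1
        (IsNoetherian.noetherian (J ⊔ maximalIdeal A ^ n))
      refine ⟨c, a, fun i => ha ▸ Submodule.subset_span ⟨i, rfl⟩, le_sup_of_le_right ?_⟩
      exact ha.ge
    obtain ⟨c, ⟨a, ha, hgen⟩, hmin⟩ : ∃ c, (∃ a : Fin c → A, (∀ i, a i ∈ J ⊔ maximalIdeal A ^ n) ∧
        J ⊔ maximalIdeal A ^ n ≤ J ⊔ maximalIdeal A ^ (n + 1) ⊔ Ideal.span (Set.range a)) ∧
        ∀ m < c, ¬ ∃ a : Fin m → A, (∀ i, a i ∈ J ⊔ maximalIdeal A ^ n) ∧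
          J ⊔ maximalIdeal A ^ n ≤ J ⊔ maximalIdeal A ^ (n + 1) ⊔ Ideal.span (Set.range a) :=
      ⟨Nat.find hex, Nat.find_spec hex, fun m hm => Nat.find_min hex hm⟩
    -- decompose `x`
    obtain ⟨x₀, hx₀, y, hy⟩ : ∃ x₀ ∈ (J ⊔ maximalIdeal A ^ (n + 1)) • (⊤ : Submodule A M),
        ∃ y : Fin c → M, x = x₀ + ∑ i, a i • y i := by
      have hx1 := Submodule.smul_mono_left hgen ih
      rw [Submodule.sup_smul] at hx1
      obtain ⟨x₀, hx₀, x₁, hx₁, rfl⟩ := Submodule.mem_sup.1 hx1
      refine ⟨x₀, hx₀, ?_⟩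
      suffices ∃ y : Fin c → M, x₁ = ∑ i, a i • y i from this.imp fun y hy => by rw [hy]
      refine Submodule.smul_induction_on hx₁ (fun r hr m _ => ?_) ?_
      · obtain ⟨d, rfl⟩ := Ideal.mem_span_range_iff_exists_fun.1 hr
        exact ⟨fun i => d i • m, by
          rw [Finset.sum_smul]; exact Finset.sum_congr rfl fun i _ => by rw [smul_smul, mul_comm]⟩
      · rintro u v ⟨y, rfl⟩ ⟨y', rfl⟩
        exact ⟨y + y', by simp [smul_add, Finset.sum_add_distrib]⟩
    have hrel0 : ∑ i, a i • φ (y i) ∈ (J ⊔ maximalIdeal A ^ (n + 1)) • (⊤ : Submodule A N) := by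
      have : ∑ i, a i • φ (y i) = φ x - φ x₀ := by simp [hy]
      rw [this]
      exact sub_mem (Submodule.smul_mono_left le_sup_left hx) (map_mem_smul φ hx₀)
    obtain ⟨k, e, he, hek⟩ : ∃ (k : ℕ) (e : Fin k → A × N),
        (∀ l, (e l).1 ∈ J ⊔ maximalIdeal A ^ (n + 1)) ∧
          ∑ l, (e l).1 • (e l).2 = ∑ i, a i • φ (y i) := by
      refine Submodule.smul_induction_on hrel0 (fun r hr m _ => ⟨1, fun _ => (r, m), fun _ => hr, by simp⟩) ?_
      rintro u v ⟨k, e, he, hu⟩ ⟨k', e', he', hv⟩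
      exact ⟨k + k', Fin.append e e', fun l => by
        induction l using Fin.addCases with
        | left l => simpa using he l
        | right l => simpa using he' l, by simp [Fin.sum_univ_add, hu, hv]⟩
    have hrel : ∑ i : Fin c ⊕ Fin k, Sum.elim a (fun l => -(e l).1) i •
        Sum.elim (φ ∘ y) (fun l => (e l).2) i = 0 := by
      simp [Fintype.sum_sum_type, hek]
    obtain ⟨t, b, w, hw, hb⟩ := Module.Flat.isTrivialRelation_of_sum_smul_eq_zero hrel
    have hym : ∀ i, y i ∈ maximalIdeal A • (⊤ : Submodule A M) := by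
      intro i
      refine h _ ?_
      rw [show φ (y i) = ∑ j, b (Sum.inl i) j • w j from hw (Sum.inl i)]
      refine Submodule.sum_mem _ fun j _ => Submodule.smul_mem_smul ?_ trivial
      by_contra hu
      obtain ⟨v, hv⟩ := (IsLocalRing.notMem_maximalIdeal.1 hu).exists_right_inv
      obtain ⟨c', hc'⟩ : ∃ c', c = c' + 1 := ⟨c - 1, by have := i.2; omega⟩
      let a' : Fin c' → A := fun q => a (Fin.cast hc'.symm ((Fin.cast hc' i).succAbove q))
      refine hmin c' (by omega) ⟨a', fun q => ha _, le_trans hgen (sup_le le_sup_left ?_)⟩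
      rw [Ideal.span_le]
      have hmem : ∀ q, q ≠ i → a q ∈ Ideal.span (Set.range a') := fun q hq => by
        obtain ⟨r, hr⟩ := Fin.exists_succAbove_eq (x := Fin.cast hc' q) (y := Fin.cast hc' i)
          (fun h => hq (Fin.cast_injective _ h))
        exact Ideal.subset_span ⟨r, by simp only [a', hr]; rfl⟩
      rintro _ ⟨q, rfl⟩
      by_cases hq : q = i
      · subst hq
        have h' := hb j
        rw [Fintype.sum_sum_type] at h'
        simp only [Sum.elim_inl, Sum.elim_inr, neg_mul, Finset.sum_neg_distrib, add_neg_eq_zero] at h'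
        rw [← Finset.add_sum_erase _ _ (Finset.mem_univ q)] at h'
        have heq : a q = (∑ l, (e l).1 * b (Sum.inr l) j -
            ∑ r ∈ Finset.univ.erase q, a r * b (Sum.inl r) j) * v := by
          rw [← h', add_sub_cancel_right, mul_assoc, hv, mul_one]
        rw [heq]
        refine Ideal.mul_mem_right _ _ (sub_mem (Ideal.mem_sup_left (Ideal.sum_mem _ fun l _ =>
          Ideal.mul_mem_right _ _ (he l))) (Ideal.mem_sup_right (Ideal.sum_mem _ fun r hr =>
          Ideal.mul_mem_right _ _ (hmem r (Finset.ne_of_mem_erase hr)))))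
      · exact Ideal.mem_sup_right (hmem q hq)
    rw [hy]
    refine add_mem hx₀ (Submodule.sum_mem _ fun i _ => ?_)
    refine Submodule.smul_induction_on (hym i) (fun r hr m _ => ?_) fun u v hu hv => by
      rw [smul_add]; exact add_mem hu hv
    rw [smul_smul]
    refine Submodule.smul_mem_smul ?_ trivial
    obtain ⟨j₀, hj₀, q, hq, hjq⟩ := Submodule.mem_sup.1 (ha i)
    rw [← hjq, add_mul]
    exact add_mem (Ideal.mem_sup_left (J.mul_mem_right _ hj₀))
      (Ideal.mem_sup_right (by rw [pow_succ]; exact Ideal.mul_mem_mul hq hr))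

theorem injective_of_mod (φ : M →ₗ[A] N) [Module.Flat A M] [Module.Flat A N] {I : Ideal A} (hI : I ≠ ⊤)
    (h : ∀ x, φ x ∈ I • (⊤ : Submodule A N) → x ∈ I • (⊤ : Submodule A M)) : Function.Injective φ := by
  rw [injective_iff_map_eq_zero]
  intro x hx
  simpa using mem_smul_of_map_mem φ (mem_of_map_mem φ hI h) ⊥ x (by simp [hx])

/-- An injective map of flat modules stays injective modulo every ideal. -/
theorem mem_smul_of_injective (φ : M →ₗ[A] N) [Module.Flat A M] [Module.Flat A N]
    (hφ : Function.Injective φ) (J : Ideal A) (x : M) (hx : φ x ∈ J • (⊤ : Submodule A N)) :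
    x ∈ J • (⊤ : Submodule A M) :=
  mem_smul_of_map_mem φ (mem_of_map_mem φ bot_ne_top fun y hy => by
    rw [Submodule.bot_smul, Submodule.mem_bot] at hy ⊢
    exact hφ (by rw [hy, map_zero])) J x hx

/-- The cokernel of an injective map of flat modules is flat. -/
theorem flat_coker (φ : M →ₗ[A] N) [Module.Flat A M] [Module.Flat A N] (hφ : Function.Injective φ)
    {Q : Type w} [AddCommGroup Q] [Module A Q] (g : N →ₗ[A] Q) (hg : Function.Surjective g)
    (hex : Function.Exact φ g) : Module.Flat A Q := by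
  classical
  refine Module.Flat.iff_forall_isTrivialRelation.2 fun {l} {f} {x} hfx => ?_
  choose x' hx' using fun i => hg (x i)
  have h0 : g (∑ i, f i • x' i) = 0 := by simp [hx', hfx]
  obtain ⟨u, hu⟩ := (hex _).1 h0
  have huJ : u ∈ Ideal.span (Set.range f) • (⊤ : Submodule A M) := by
    refine mem_smul_of_injective φ hφ _ u ?_
    rw [hu]
    exact Submodule.sum_mem _ fun i _ => Submodule.smul_mem_smul (Ideal.subset_span ⟨i, rfl⟩) trivial
  obtain ⟨w', hw'⟩ : ∃ w' : Fin l → M, u = ∑ i, f i • w' i := by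
    refine Submodule.smul_induction_on huJ (fun r hr m _ => ?_) ?_
    · obtain ⟨d, rfl⟩ := Ideal.mem_span_range_iff_exists_fun.1 hr
      exact ⟨fun i => d i • m, by
        rw [Finset.sum_smul]; exact Finset.sum_congr rfl fun i _ => by rw [smul_smul, mul_comm]⟩
    · rintro u v ⟨y, rfl⟩ ⟨y', rfl⟩
      exact ⟨y + y', by simp [smul_add, Finset.sum_add_distrib]⟩
  have hrel : ∑ i, f i • (x' i - φ (w' i)) = 0 := by
    simp [smul_sub, Finset.sum_sub_distrib, ← hu, hw']
  obtain ⟨k, a, y, hy, ha⟩ := Module.Flat.isTrivialRelation_of_sum_smul_eq_zero hrel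
  refine ⟨k, a, g ∘ y, fun i => ?_, ha⟩
  have := congrArg g (hy i)
  simpa [map_sub, hex.apply_apply_eq_zero, hx'] using this

section Algebra

variable {S : Type v} [CommRing S] [Algebra A S]

theorem mk_mem_smul_top_iff (K : Ideal S) (I : Ideal A) (x : S) :
    Ideal.Quotient.mk K x ∈ I • (⊤ : Submodule A (S ⧸ K)) ↔ x ∈ K ⊔ I.map (algebraMap A S) := by
  rw [Ideal.smul_top_eq_map, Submodule.restrictScalars_mem, IsScalarTower.algebraMap_eq A S (S ⧸ K),
    ← Ideal.map_map, Ideal.Quotient.algebraMap_eq, Ideal.mem_map_iff_of_surjective _ Ideal.Quotient.mk_surjective]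
  constructor
  · rintro ⟨y, hy, hyx⟩
    have := Ideal.Quotient.eq.1 hyx
    rw [← sub_sub_cancel y x]
    exact sub_mem (Ideal.mem_sup_right hy) (Ideal.mem_sup_left this)
  · intro h
    obtain ⟨k, hk, y, hy, rfl⟩ := Submodule.mem_sup.1 h
    exact ⟨y, hy, by rw [map_add, Ideal.Quotient.eq_zero_iff_mem.2 hk, zero_add]⟩

/-- Regularity of an element on a flat quotient is detected modulo a proper ideal of the base. -/
theorem regular_mod_iff (K : Ideal S) [Module.Flat A (S ⧸ K)] {I : Ideal A} (hI : I ≠ ⊤) (r : S) :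
    (∀ x, r * x ∈ K → x ∈ K) ↔
      ∀ x, r * x ∈ K ⊔ I.map (algebraMap A S) → x ∈ K ⊔ I.map (algebraMap A S) := by
  let φ : (S ⧸ K) →ₗ[A] (S ⧸ K) := LinearMap.mulLeft A (Ideal.Quotient.mk K r)
  have hφ : ∀ x, φ (Ideal.Quotient.mk K x) = Ideal.Quotient.mk K (r * x) := fun x => (map_mul _ _ _).symm
  constructor
  · intro h x hx
    have hinj : Function.Injective φ := by
      rw [injective_iff_map_eq_zero]
      intro z hz
      obtain ⟨z, rfl⟩ := Ideal.Quotient.mk_surjective z
      rw [hφ, Ideal.Quotient.eq_zero_iff_mem] at hz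
      exact Ideal.Quotient.eq_zero_iff_mem.2 (h z hz)
    refine (mk_mem_smul_top_iff K I x).1 (mem_smul_of_injective φ hinj I _ ?_)
    rw [hφ]
    exact (mk_mem_smul_top_iff K I _).2 hx
  · intro h x hx
    have hinj : Function.Injective φ := by
      refine injective_of_mod φ hI fun z hz => ?_
      obtain ⟨z, rfl⟩ := Ideal.Quotient.mk_surjective z
      rw [hφ, mk_mem_smul_top_iff] at hz
      exact (mk_mem_smul_top_iff K I z).2 (h z hz)
    refine Ideal.Quotient.eq_zero_iff_mem.1 (hinj ?_)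
    rw [hφ, map_zero, Ideal.Quotient.eq_zero_iff_mem.2 hx]

/-- The quotient of a flat quotient by a regular element is flat. -/
theorem flat_quotient_sup (K : Ideal S) [Module.Flat A (S ⧸ K)] (r : S)
    (h : ∀ x, r * x ∈ K → x ∈ K) : Module.Flat A (S ⧸ (K ⊔ Ideal.span {r})) := by
  let φ : (S ⧸ K) →ₗ[A] (S ⧸ K) := LinearMap.mulLeft A (Ideal.Quotient.mk K r)
  have hinj : Function.Injective φ := by
    rw [injective_iff_map_eq_zero]
    intro z hz
    obtain ⟨z, rfl⟩ := Ideal.Quotient.mk_surjective z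
    exact Ideal.Quotient.eq_zero_iff_mem.2
      (h z (Ideal.Quotient.eq_zero_iff_mem.1 ((map_mul _ _ _).trans hz)))
  have hle : K ≤ K ⊔ Ideal.span {r} := le_sup_left
  refine flat_coker φ hinj (Ideal.Quotient.factorₐ A hle).toLinearMap
    (Ideal.Quotient.factor_surjective hle) fun y => ?_
  obtain ⟨y, rfl⟩ := Ideal.Quotient.mk_surjective y
  constructor
  · intro hy
    have hy' : y ∈ K ⊔ Ideal.span {r} := Ideal.Quotient.eq_zero_iff_mem.1 hy
    obtain ⟨k, hk, z, hz, rfl⟩ := Submodule.mem_sup.1 hy'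
    obtain ⟨c, rfl⟩ := Ideal.mem_span_singleton'.1 hz
    refine ⟨Ideal.Quotient.mk K c, ?_⟩
    show Ideal.Quotient.mk K r * _ = _
    rw [← map_mul, map_add, Ideal.Quotient.eq_zero_iff_mem.2 hk, zero_add, mul_comm]
  · rintro ⟨z, hz⟩
    obtain ⟨z, rfl⟩ := Ideal.Quotient.mk_surjective z
    rw [← hz]
    show Ideal.Quotient.factor hle (Ideal.Quotient.mk K r * Ideal.Quotient.mk K z) = 0
    rw [← map_mul, Ideal.Quotient.factor_mk, Ideal.Quotient.eq_zero_iff_mem]
    exact Ideal.mem_sup_right (Ideal.mul_mem_right _ _ (Ideal.mem_span_singleton_self r))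

theorem mk_mem_smul_top_iff' (J K : Ideal S) (x : S) :
    Ideal.Quotient.mk J x ∈ K • (⊤ : Submodule S (S ⧸ J)) ↔ x ∈ K ⊔ J := by
  rw [Ideal.smul_top_eq_map, Submodule.restrictScalars_mem, Ideal.Quotient.algebraMap_eq, ← Ideal.mem_comap,
    Ideal.comap_map_of_surjective _ Ideal.Quotient.mk_surjective, ← RingHom.ker_eq_comap_bot, Ideal.mk_ker]

theorem isWeaklyRegular_quotient_iff (J : Ideal S) (rs : List S) :
    RingTheory.Sequence.IsWeaklyRegular (S ⧸ J) rs ↔
      ∀ i (h : i < rs.length), ∀ x, rs[i] * x ∈ Ideal.ofList (rs.take i) ⊔ J →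
        x ∈ Ideal.ofList (rs.take i) ⊔ J := by
  refine (RingTheory.Sequence.isWeaklyRegular_iff _ _).trans (forall_congr' fun i => forall_congr' fun h => ?_)
  rw [isSMulRegular_quotient_iff_mem_of_smul_mem]
  constructor
  · intro H x hx
    rw [← mk_mem_smul_top_iff'] at hx ⊢
    exact H _ (by rwa [Algebra.smul_def, Ideal.Quotient.algebraMap_eq, ← map_mul])
  · intro H z hz
    obtain ⟨x, rfl⟩ := Ideal.Quotient.mk_surjective z
    rw [Algebra.smul_def, Ideal.Quotient.algebraMap_eq, ← map_mul, mk_mem_smul_top_iff'] at hz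
    exact (mk_mem_smul_top_iff' _ _ _).2 (H x hz)

theorem isWeaklyRegular_self_iff (rs : List S) :
    RingTheory.Sequence.IsWeaklyRegular S rs ↔
      ∀ i (h : i < rs.length), ∀ x, rs[i] * x ∈ Ideal.ofList (rs.take i) →
        x ∈ Ideal.ofList (rs.take i) := by
  refine (RingTheory.Sequence.isWeaklyRegular_iff _ _).trans (forall_congr' fun i => forall_congr' fun h => ?_)
  rw [isSMulRegular_quotient_iff_mem_of_smul_mem, Ideal.smul_eq_mul, Ideal.mul_top]
  rfl

variable [Module.Flat A S]

theorem flat_prefix (rs : List S) (h : ∀ i (h : i < rs.length), Module.Flat A (S ⧸ Ideal.ofList (rs.take i)) →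
      ∀ x, rs[i] * x ∈ Ideal.ofList (rs.take i) → x ∈ Ideal.ofList (rs.take i)) :
    ∀ i, i ≤ rs.length → Module.Flat A (S ⧸ Ideal.ofList (rs.take i)) := by
  intro i
  induction i with
  | zero =>
    intro _
    exact Module.Flat.of_linearEquiv
      (Ideal.quotientEquivAlgOfEq A (show Ideal.ofList (rs.take 0) = ⊥ by simp)
        |>.trans (AlgEquiv.quotientBot A S)).toLinearEquiv
  | succ i ih =>
    intro hi
    have := ih (by omega)
    have hf := flat_quotient_sup (A := A) (Ideal.ofList (rs.take i)) rs[i] (h i (by omega) this)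
    exact Module.Flat.of_linearEquiv (Ideal.quotientEquivAlgOfEq A
      (show Ideal.ofList (rs.take (i + 1)) = Ideal.ofList (rs.take i) ⊔ Ideal.span {rs[i]} by
        rw [List.take_succ_eq_append_getElem (by omega), Ideal.ofList_append, Ideal.ofList_singleton])).toLinearEquiv

/-- Regular sequences in a flat algebra over an Artinian local ring lift along reduction. -/
theorem isWeaklyRegular_iff_mod {I : Ideal A} (hI : I ≠ ⊤) (rs : List S) :
    RingTheory.Sequence.IsWeaklyRegular S rs ↔
      RingTheory.Sequence.IsWeaklyRegular (S ⧸ I.map (algebraMap A S))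
        (rs.map (Ideal.Quotient.mk (I.map (algebraMap A S)))) := by
  rw [← Ideal.Quotient.algebraMap_eq, RingTheory.Sequence.isWeaklyRegular_map_algebraMap_iff,
    isWeaklyRegular_self_iff, isWeaklyRegular_quotient_iff]
  constructor
  · intro h i hi
    haveI := flat_prefix (A := A) rs (fun i hi _ => h i hi) i hi.le
    exact (regular_mod_iff (A := A) _ hI _).1 (h i hi)
  · intro h i hi
    haveI := flat_prefix (A := A) rs (fun i hi hf => (regular_mod_iff (A := A) _ hI _).2 (h i hi)) i hi.le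
    exact (regular_mod_iff (A := A) _ hI _).2 (h i hi)

theorem flat_of_isWeaklyRegular {rs : List S} (h : RingTheory.Sequence.IsWeaklyRegular S rs) :
    Module.Flat A (S ⧸ Ideal.ofList rs) := by
  have h' := flat_prefix (A := A) rs (fun i hi _ => (isWeaklyRegular_self_iff rs).1 h i hi) rs.length le_rfl
  rwa [List.take_length] at h'

end Algebra

end Groth.Agent.FlatArtin
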